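import Cfsg.Agent.Lib.Helper5.F11.H17.FrCDefs
import Cfsg.Agent.Lib.Helper5.F11.H15.FrCS

/-!
CORE13 (S5679 + S5696), block L1 tools (helper27): vectors of a coordinate 3-space `VT {i,j,k}` in coordinates
(`v3 i j k p q r`), their dot products, the action of `-r_b`, rotation and sign changes inside a `Sys`.
-/

set_option autoImplicit false
set_option linter.unusedSectionVars false
set_option linter.unusedVariables false
set_option linter.unusedSimpArgs false

namespace Cfsg.Agent.Lib.Helper5.F11.H27.FrCLeaf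

open Module QuadraticMap Matrix Cfsg.Agent.Lib.Helper25.CD Cfsg.Agent.Lib.Helper25.Spin
  Cfsg.Agent.Lib.Helper5.NSMax Cfsg.Agent.Lib.Helper5.PairMax Cfsg.Agent.Lib.Helper17.OC2
  Cfsg.Agent.Lib.Helper29.FrStd Cfsg.Agent.Lib.Helper11.Mono Cfsg.Agent.Lib.Helper5.F11.H17.FrC

variable {κ : Type} [Fintype κ] [DecidableEq κ] {F : Type*} [Field F] [Fintype F]
  {c : F} {M : Subgroup ↥(Cfsg.isometryGroup F ⇑(stdQ κ F c))}

/-- the vector with coordinates `p, q, r` at `i, j, k` and `0` elsewhere -/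
def v3 (i j k : κ) (p q r : F) : κ → F :=
  fun l => if l = i then p else if l = j then q else if l = k then r else 0

section v3
variable {i j k : κ} (hij : i ≠ j) (hik : i ≠ k) (hjk : j ≠ k)

lemma v3_i (p q r : F) : v3 i j k p q r i = p := by
  unfold v3; rw [if_pos rfl]

include hij in
lemma v3_j (p q r : F) : v3 i j k p q r j = q := by
  unfold v3; rw [if_neg hij.symm, if_pos rfl]

include hik hjk in
lemma v3_k (p q r : F) : v3 i j k p q r k = r := by
  unfold v3; rw [if_neg hik.symm, if_neg hjk.symm, if_pos rfl]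

lemma v3_other (p q r : F) {l : κ} (hi : l ≠ i) (hj : l ≠ j) (hk : l ≠ k) :
    v3 i j k p q r l = 0 := by
  unfold v3; rw [if_neg hi, if_neg hj, if_neg hk]

lemma v3_mem_VT (p q r : F) : v3 i j k p q r ∈ (VT ({i, j, k} : Finset κ) : Submodule F (κ → F)) := by
  intro l hl
  simp only [Finset.mem_insert, Finset.mem_singleton, not_or] at hl
  exact v3_other p q r hl.1 hl.2.1 hl.2.2

include hij hik hjk in
lemma eq_v3_of_mem_VT {x : κ → F} (hx : x ∈ (VT ({i, j, k} : Finset κ) : Submodule F (κ → F))) :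
    x = v3 i j k (x i) (x j) (x k) := by
  ext l
  by_cases hi : l = i
  · subst hi; rw [v3_i]
  · by_cases hj : l = j
    · subst hj; rw [v3_j hij]
    · by_cases hk : l = k
      · subst hk; rw [v3_k hik hjk]
      · rw [v3_other _ _ _ hi hj hk]
        apply hx
        simp only [Finset.mem_insert, Finset.mem_singleton, not_or]
        exact ⟨hi, hj, hk⟩

include hij hik hjk in
lemma v3_dot (p q r p' q' r' : F) :
    v3 i j k p q r ⬝ᵥ v3 i j k p' q' r' = p * p' + q * q' + r * r' := by
  unfold dotProduct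
  have hsub : ∀ l ∈ (Finset.univ : Finset κ), l ∉ ({i, j, k} : Finset κ) →
      v3 i j k p q r l * v3 i j k p' q' r' l = 0 := by
    intro l _ hl
    simp only [Finset.mem_insert, Finset.mem_singleton, not_or] at hl
    rw [v3_other p q r hl.1 hl.2.1 hl.2.2, zero_mul]
  rw [← Finset.sum_subset (Finset.subset_univ ({i, j, k} : Finset κ)) hsub]
  rw [Finset.sum_insert (by simp [hij, hik]), Finset.sum_insert (by simp [hjk]), Finset.sum_singleton,
    v3_i, v3_i, v3_j hij, v3_j hij, v3_k hik hjk, v3_k hik hjk]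
  ring

lemma v3_ext {p q r p' q' r' : F} (h1 : p = p') (h2 : q = q') (h3 : r = r') :
    v3 i j k p q r = v3 i j k p' q' r' := by
  rw [h1, h2, h3]

lemma v3_e : v3 i j k (1 : F) 0 0 = e i := by
  ext l
  unfold v3 e
  by_cases hi : l = i
  · subst hi; simp
  · simp [hi, Pi.single_eq_of_ne hi]

lemma v3_smul_add (s : F) (p q r p' q' r' : F) :
    v3 i j k p q r - s • v3 i j k p' q' r' = v3 i j k (p - s * p') (q - s * q') (r - s * r') := by
  ext l
  unfold v3
  simp only [Pi.sub_apply, Pi.smul_apply, smul_eq_mul]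
  split_ifs <;> ring

lemma v3_neg (p q r : F) : -v3 i j k p q r = v3 i j k (-p) (-q) (-r) := by
  ext l
  unfold v3
  simp only [Pi.neg_apply]
  split_ifs <;> ring

include hij hik hjk in
/-- the action of `-r_b` on `VT {i,j,k}` -/
lemma negRefl_v3 (hc : c ≠ 0) (h2 : (2 : F) ≠ 0) {b1 b2 b3 : F} (hb : b1 * b1 + b2 * b2 + b3 * b3 = 1)
    (p q r : F) :
    toOG (stdQ κ F c) (negRefl (stdQ κ F c) (v3 i j k b1 b2 b3)) (v3 i j k p q r) =
      v3 i j k (-p + 2 * (p * b1 + q * b2 + r * b3) * b1) (-q + 2 * (p * b1 + q * b2 + r * b3) * b2)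
        (-r + 2 * (p * b1 + q * b2 + r * b3) * b3) := by
  have hbb : v3 i j k b1 b2 b3 ⬝ᵥ v3 i j k b1 b2 b3 = 1 := by rw [v3_dot hij hik hjk, hb]
  rw [Cfsg.Agent.Lib.Helper5.F11.H15.FrCLeaf.toOG_negRefl_unit hc h2 hbb, v3_dot hij hik hjk, v3_smul_add,
    v3_neg]
  apply v3_ext <;> ring

include hij hik hjk in
/-- rotation of the coordinates -/
lemma v3_rot {R : (κ → F) → Prop} (hS : Sys R) {p q r : F} (h : R (v3 i j k p q r)) :
    R (v3 i j k q r p) := by
  have hσ : Equiv.Perm.sign (Equiv.swap i j * Equiv.swap j k) = 1 := by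
    rw [Equiv.Perm.sign_mul, Equiv.Perm.sign_swap hij, Equiv.Perm.sign_swap hjk]
    rfl
  have h1 := hS.perm _ _ hσ h
  have h2 : v3 i j k p q r ∘ (Equiv.swap i j * Equiv.swap j k) = v3 i j k q r p := by
    ext l
    rw [Function.comp_apply, Equiv.Perm.mul_apply]
    by_cases hi : l = i
    · subst hi
      rw [Equiv.swap_apply_of_ne_of_ne hij hik, Equiv.swap_apply_left, v3_j hij, v3_i]
    · by_cases hj : l = j
      · subst hj
        rw [Equiv.swap_apply_left, Equiv.swap_apply_of_ne_of_ne hik.symm hjk.symm, v3_k hik hjk,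
          v3_j hij]
      · by_cases hk : l = k
        · subst hk
          rw [Equiv.swap_apply_right, Equiv.swap_apply_right, v3_i, v3_k hik hjk]
        · rw [Equiv.swap_apply_of_ne_of_ne hj hk, Equiv.swap_apply_of_ne_of_ne hi hj,
            v3_other _ _ _ hi hj hk, v3_other _ _ _ hi hj hk]
  rwa [h2] at h1

include hij hik hjk in
lemma v3_flip1 {R : (κ → F) → Prop} (hS : Sys R) {p q r : F} (h : R (v3 i j k p q r)) :
    R (v3 i j k (-p) q r) := by
  have h1 := hS.flip _ i h
  have h2 : flip i (v3 i j k p q r) = v3 i j k (-p) q r := by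
    ext l
    unfold Cfsg.Agent.Lib.Helper5.F11.H17.FrC.flip
    by_cases hi : l = i
    · subst hi
      rw [Function.update_self, v3_i, v3_i]
    · rw [Function.update_of_ne hi]
      unfold v3
      rw [if_neg hi, if_neg hi]
  rwa [h2] at h1

include hij hik hjk in
lemma v3_flip2 {R : (κ → F) → Prop} (hS : Sys R) {p q r : F} (h : R (v3 i j k p q r)) :
    R (v3 i j k p (-q) r) := by
  have h1 := hS.flip _ j h
  have h2 : flip j (v3 i j k p q r) = v3 i j k p (-q) r := by
    ext l
    unfold Cfsg.Agent.Lib.Helper5.F11.H17.FrC.flip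
    by_cases hj : l = j
    · subst hj
      rw [Function.update_self, v3_j hij, v3_j hij]
    · rw [Function.update_of_ne hj]
      unfold v3
      by_cases hi : l = i
      · rw [if_pos hi, if_pos hi]
      · rw [if_neg hi, if_neg hi, if_neg hj, if_neg hj]
  rwa [h2] at h1

include hij hik hjk in
lemma v3_flip3 {R : (κ → F) → Prop} (hS : Sys R) {p q r : F} (h : R (v3 i j k p q r)) :
    R (v3 i j k p q (-r)) := by
  have h1 := hS.flip _ k h
  have h2 : flip k (v3 i j k p q r) = v3 i j k p q (-r) := by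
    ext l
    unfold Cfsg.Agent.Lib.Helper5.F11.H17.FrC.flip
    by_cases hk : l = k
    · subst hk
      rw [Function.update_self, v3_k hik hjk, v3_k hik hjk]
    · rw [Function.update_of_ne hk]
      unfold v3
      by_cases hi : l = i
      · rw [if_pos hi, if_pos hi]
      · by_cases hj : l = j
        · rw [if_neg hi, if_neg hi, if_pos hj, if_pos hj]
        · rw [if_neg hi, if_neg hi, if_neg hj, if_neg hj, if_neg hk, if_neg hk]
  rwa [h2] at h1

end v3

/-- iterating a power of an isometry -/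
lemma toOG_pow_succ (g : ↥(Cfsg.isometryGroup F ⇑(stdQ κ F c))) (n : ℕ) (u : κ → F) :
    toOG (stdQ κ F c) (g ^ (n + 1)) u = toOG (stdQ κ F c) (g ^ n) (toOG (stdQ κ F c) g u) := by
  rw [pow_succ, map_mul, LinearEquiv.mul_apply]

lemma toOG_pow_zero (g : ↥(Cfsg.isometryGroup F ⇑(stdQ κ F c))) (u : κ → F) :
    toOG (stdQ κ F c) (g ^ 0) u = u := by
  rw [pow_zero, map_one]
  rfl

end Cfsg.Agent.Lib.Helper5.F11.H27.FrCLeaf
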