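import Cfsg.Agent.Lib.Helper5.F11.H17.FrCDefs
import Cfsg.Agent.Lib.Helper5.F11.H15.FrCS
import Cfsg.Agent.Lib.Helper5.F11.H27.FrCL1Tools

/-!
CORE13 (S5679 + S5696), leaf L1c `vt_not_small_seven` (helper27), exact signature.
Over `F_7` a non-`B` unit vector of a coordinate 3-space is `(±3,±3,±2)` up to order; the word
`(-r_{e_i})(-r_{(3,3,2)})(-r_{(3,2,4)})` has order 7 on `VT T`.
-/

set_option autoImplicit false
set_option linter.unusedSectionVars false
set_option linter.unusedVariables false
set_option linter.unusedSimpArgs false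

namespace Cfsg.Agent.Lib.Helper5.F11.H27.FrCLeaf

open Module QuadraticMap Matrix Cfsg.Agent.Lib.Helper25.CD Cfsg.Agent.Lib.Helper25.Spin
  Cfsg.Agent.Lib.Helper5.NSMax Cfsg.Agent.Lib.Helper5.PairMax Cfsg.Agent.Lib.Helper17.OC2
  Cfsg.Agent.Lib.Helper29.FrStd Cfsg.Agent.Lib.Helper11.Mono Cfsg.Agent.Lib.Helper5.F11.H17.FrC

variable {κ : Type} [Fintype κ] [DecidableEq κ] {F : Type*} [Field F] [Fintype F]
  {c : F} {M : Subgroup ↥(Cfsg.isometryGroup F ⇑(stdQ κ F c))}

lemma seven_eq_zero (h7 : Fintype.card F = 7) : (7 : F) = 0 := by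
  have := Nat.cast_card_eq_zero F
  rw [h7] at this
  exact_mod_cast this

/-- squares in a field with 7 elements -/
lemma sq_seven (h7 : Fintype.card F = 7) (t : F) :
    t ^ 2 = 0 ∨ t ^ 2 = 1 ∨ t ^ 2 = 2 ∨ t ^ 2 = 4 := by
  have h7F := seven_eq_zero h7
  have hpow : t ^ 7 = t := by
    have := FiniteField.pow_card t
    rwa [h7] at this
  have hprod : t * ((t ^ 2 - 1) * ((t ^ 2 - 2) * (t ^ 2 - 4))) = 0 := by
    linear_combination hpow + (-t ^ 5 + 2 * t ^ 3 - t) * h7F
  rcases mul_eq_zero.1 hprod with h0 | h0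
  · left; rw [h0]; ring
  · rcases mul_eq_zero.1 h0 with h1 | h1
    · right; left; linear_combination h1
    · rcases mul_eq_zero.1 h1 with h1 | h1
      · right; right; left; linear_combination h1
      · right; right; right; linear_combination h1

/-- small numerals are non-zero in characteristic 7 -/
lemma ne_zero_seven (h7 : Fintype.card F = 7) (h2 : (2 : F) ≠ 0) :
    (1 : F) ≠ 0 ∧ (2 : F) ≠ 0 ∧ (3 : F) ≠ 0 ∧ (4 : F) ≠ 0 ∧ (5 : F) ≠ 0 ∧ (6 : F) ≠ 0 := by
  have h7F := seven_eq_zero h7
  have h3 : (3 : F) ≠ 0 := by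
    intro h3
    apply one_ne_zero (α := F)
    linear_combination h7F - 2 * h3
  have h4 : (4 : F) ≠ 0 := by
    intro h4
    apply h2
    have : (2 : F) * 2 = 0 := by linear_combination h4
    rcases mul_eq_zero.1 this with h | h <;> exact h
  refine ⟨one_ne_zero, h2, h3, h4, ?_, ?_⟩
  · intro h5
    apply h2
    linear_combination h7F - h5
  · intro h6
    apply one_ne_zero (α := F)
    linear_combination h7F - h6

/-- a vector supported on two coordinates `a, b` with `x_a² + x_b² = 1` is of type `B` (`p = 7`) -/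
lemma isB_of_two_seven (h7 : Fintype.card F = 7) (h2 : (2 : F) ≠ 0) {a b : κ} (hab : a ≠ b)
    {x : κ → F} (hsupp : ∀ l, l ≠ a → l ≠ b → x l = 0) (hunit : x a ^ 2 + x b ^ 2 = 1) : IsB x := by
  have h7F := seven_eq_zero h7
  obtain ⟨n1, n2, n3, n4, n5, n6⟩ := ne_zero_seven h7 h2
  have key : (x a ^ 2 = 1 ∧ x b ^ 2 = 0) ∨ (x a ^ 2 = 0 ∧ x b ^ 2 = 1) ∨
      (x a ^ 2 = 4 ∧ x b ^ 2 = 4) := by
    rcases sq_seven h7 (x a) with ha | ha | ha | ha <;>
      rcases sq_seven h7 (x b) with hb | hb | hb | hb <;>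
      rw [ha, hb] at hunit
    · exact absurd (by linear_combination -hunit) n1
    · exact Or.inr (Or.inl ⟨ha, hb⟩)
    · exact absurd (by linear_combination hunit) n1
    · exact absurd (by linear_combination hunit) n3
    · exact Or.inl ⟨ha, hb⟩
    · exact absurd (by linear_combination hunit) n1
    · exact absurd (by linear_combination hunit) n2
    · exact absurd (by linear_combination hunit) n4
    · exact absurd (by linear_combination hunit) n1
    · exact absurd (by linear_combination hunit) n2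
    · exact absurd (by linear_combination hunit) n3
    · exact absurd (by linear_combination hunit) n5
    · exact absurd (by linear_combination hunit) n3
    · exact absurd (by linear_combination hunit) n4
    · exact absurd (by linear_combination hunit) n5
    · exact Or.inr (Or.inr ⟨ha, hb⟩)
  rcases key with ⟨ha, hb⟩ | ⟨ha, hb⟩ | ⟨ha, hb⟩
  · left
    refine ⟨a, ?_⟩
    have hb0 : x b = 0 := by
      have := pow_eq_zero_iff (n := 2) (by norm_num) |>.1 hb
      exact this
    have ha1 : x a = 1 ∨ x a = -1 := by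
      have : (x a - 1) * (x a + 1) = 0 := by linear_combination ha
      rcases mul_eq_zero.1 this with h | h
      · left; linear_combination h
      · right; linear_combination h
    rcases ha1 with h1 | h1
    · left
      ext l
      unfold e
      by_cases hla : l = a
      · subst hla; rw [h1, Pi.single_eq_same]
      · rw [Pi.single_eq_of_ne hla]
        by_cases hlb : l = b
        · subst hlb; exact hb0
        · exact hsupp l hla hlb
    · right
      ext l
      unfold e
      rw [Pi.neg_apply]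
      by_cases hla : l = a
      · subst hla; rw [h1, Pi.single_eq_same]
      · rw [Pi.single_eq_of_ne hla, neg_zero]
        by_cases hlb : l = b
        · subst hlb; exact hb0
        · exact hsupp l hla hlb
  · left
    refine ⟨b, ?_⟩
    have ha0 : x a = 0 := by
      have := pow_eq_zero_iff (n := 2) (by norm_num) |>.1 ha
      exact this
    have hb1 : x b = 1 ∨ x b = -1 := by
      have : (x b - 1) * (x b + 1) = 0 := by linear_combination hb
      rcases mul_eq_zero.1 this with h | h
      · left; linear_combination h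
      · right; linear_combination h
    rcases hb1 with h1 | h1
    · left
      ext l
      unfold e
      by_cases hlb : l = b
      · subst hlb; rw [h1, Pi.single_eq_same]
      · rw [Pi.single_eq_of_ne hlb]
        by_cases hla : l = a
        · subst hla; exact ha0
        · exact hsupp l hla hlb
    · right
      ext l
      unfold e
      rw [Pi.neg_apply]
      by_cases hlb : l = b
      · subst hlb; rw [h1, Pi.single_eq_same]
      · rw [Pi.single_eq_of_ne hlb, neg_zero]
        by_cases hla : l = a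
        · subst hla; exact ha0
        · exact hsupp l hla hlb
  · right
    refine ⟨a, b, hab, ?_, ?_, hsupp⟩
    · rw [ha]; linear_combination h7F
    · rw [hb]; linear_combination h7F

/-- the three squares of a unit vector with non-zero coordinates (`p = 7`) -/
lemma squares_seven (h7 : Fintype.card F = 7) (h2 : (2 : F) ≠ 0) {u v w : F} (hu : u ≠ 0) (hv : v ≠ 0)
    (hw : w ≠ 0) (hunit : u ^ 2 + v ^ 2 + w ^ 2 = 1) :
    (u ^ 2 = 2 ∧ v ^ 2 = 2 ∧ w ^ 2 = 4) ∨ (u ^ 2 = 2 ∧ v ^ 2 = 4 ∧ w ^ 2 = 2) ∨
      (u ^ 2 = 4 ∧ v ^ 2 = 2 ∧ w ^ 2 = 2) := by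
  have h7F := seven_eq_zero h7
  obtain ⟨n1, n2, n3, n4, n5, n6⟩ := ne_zero_seven h7 h2
  have hu' : u ^ 2 = 1 ∨ u ^ 2 = 2 ∨ u ^ 2 = 4 := by
    rcases sq_seven h7 u with h | h | h | h
    · exact absurd (pow_eq_zero_iff (n := 2) (by norm_num) |>.1 h) hu
    · exact Or.inl h
    · exact Or.inr (Or.inl h)
    · exact Or.inr (Or.inr h)
  have hv' : v ^ 2 = 1 ∨ v ^ 2 = 2 ∨ v ^ 2 = 4 := by
    rcases sq_seven h7 v with h | h | h | h
    · exact absurd (pow_eq_zero_iff (n := 2) (by norm_num) |>.1 h) hv
    · exact Or.inl h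
    · exact Or.inr (Or.inl h)
    · exact Or.inr (Or.inr h)
  have hw' : w ^ 2 = 1 ∨ w ^ 2 = 2 ∨ w ^ 2 = 4 := by
    rcases sq_seven h7 w with h | h | h | h
    · exact absurd (pow_eq_zero_iff (n := 2) (by norm_num) |>.1 h) hw
    · exact Or.inl h
    · exact Or.inr (Or.inl h)
    · exact Or.inr (Or.inr h)
  rcases hu' with ha | ha | ha <;> rcases hv' with hb | hb | hb <;> rcases hw' with hc | hc | hc <;>
    rw [ha, hb, hc] at hunit <;>
    first
    | exact Or.inl ⟨ha, hb, hc⟩
    | exact Or.inr (Or.inl ⟨ha, hb, hc⟩)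
    | exact Or.inr (Or.inr ⟨ha, hb, hc⟩)
    | exact absurd (by linear_combination hunit) n1
    | exact absurd (by linear_combination hunit) n2
    | exact absurd (by linear_combination hunit) n3
    | exact absurd (by linear_combination hunit) n4
    | exact absurd (by linear_combination hunit) n5
    | exact absurd (by linear_combination hunit) n6
    | exact absurd (by linear_combination hunit - h7F) n1
    | exact absurd (by linear_combination hunit - h7F) n2
    | exact absurd (by linear_combination hunit - h7F) n3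
    | exact absurd (by linear_combination hunit - h7F) n4

section main
variable {i j k : κ} (hij : i ≠ j) (hik : i ≠ k) (hjk : j ≠ k)

include hij hik hjk in
/-- normalisation of a vector with squares `(2,2,4)` to `(3,3,2)` -/
lemma norm_224 (h7 : Fintype.card F = 7) {R : (κ → F) → Prop} (hS : Sys R) {u v w : F}
    (h : R (v3 i j k u v w)) (hu : u ^ 2 = 2) (hv : v ^ 2 = 2) (hw : w ^ 2 = 4) :
    R (v3 i j k 3 3 2) := by
  have h7F := seven_eq_zero h7
  have hu' : u = 3 ∨ u = -3 := by
    have : (u - 3) * (u + 3) = 0 := by linear_combination hu - h7F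
    rcases mul_eq_zero.1 this with h | h
    · left; linear_combination h
    · right; linear_combination h
  have hv' : v = 3 ∨ v = -3 := by
    have : (v - 3) * (v + 3) = 0 := by linear_combination hv - h7F
    rcases mul_eq_zero.1 this with h | h
    · left; linear_combination h
    · right; linear_combination h
  have hw' : w = 2 ∨ w = -2 := by
    have : (w - 2) * (w + 2) = 0 := by linear_combination hw
    rcases mul_eq_zero.1 this with h | h
    · left; linear_combination h
    · right; linear_combination h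
  -- fix the first coordinate
  have h1 : R (v3 i j k 3 v w) := by
    rcases hu' with hu' | hu'
    · rwa [hu'] at h
    · have := v3_flip1 hij hik hjk hS h
      rwa [hu', neg_neg] at this
  have h2 : R (v3 i j k 3 3 w) := by
    rcases hv' with hv' | hv'
    · rwa [hv'] at h1
    · have := v3_flip2 hij hik hjk hS h1
      rwa [hv', neg_neg] at this
  rcases hw' with hw' | hw'
  · rwa [hw'] at h2
  · have := v3_flip3 hij hik hjk hS h2
    rwa [hw', neg_neg] at this

include hij hik hjk in
/-- the word `(-r_{e_i})(-r_{(3,3,2)})(-r_{(3,2,4)})` on `VT {i,j,k}` -/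
lemma word_seven (h7 : Fintype.card F = 7) (hc : c ≠ 0) (h2 : (2 : F) ≠ 0) (p q r : F) :
    toOG (stdQ κ F c) (negRefl (stdQ κ F c) (v3 i j k 1 0 0) * negRefl (stdQ κ F c) (v3 i j k 3 3 2) *
      negRefl (stdQ κ F c) (v3 i j k 3 2 4)) (v3 i j k p q r) =
      v3 i j k (2 * p + 4 * q + 4 * r) (5 * q + 2 * r) (2 * p + 3 * q + 3 * r) := by
  have h7F := seven_eq_zero h7
  have hy1 : (3 : F) * 3 + 3 * 3 + 2 * 2 = 1 := by linear_combination 3 * h7F
  have hy2 : (3 : F) * 3 + 2 * 2 + 4 * 4 = 1 := by linear_combination 4 * h7F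
  have he : (1 : F) * 1 + 0 * 0 + 0 * 0 = 1 := by ring
  rw [map_mul, map_mul, LinearEquiv.mul_apply, LinearEquiv.mul_apply,
    negRefl_v3 hij hik hjk hc h2 hy2, negRefl_v3 hij hik hjk hc h2 hy1,
    negRefl_v3 hij hik hjk hc h2 he]
  apply v3_ext
  · linear_combination (113 * p + 74 * q + 152 * r) * h7F
  · linear_combination (-114 * p - 76 * q - 154 * r) * h7F
  · linear_combination (-74 * p - 49 * q - 100 * r) * h7F

end main

/-- `g^(n+1) u = g (g^n u)` -/
lemma toOG_pow_succ' (g : ↥(Cfsg.isometryGroup F ⇑(stdQ κ F c))) (n : ℕ) (u : κ → F) :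
    toOG (stdQ κ F c) (g ^ (n + 1)) u = toOG (stdQ κ F c) g (toOG (stdQ κ F c) (g ^ n) u) := by
  rw [pow_succ', map_mul, LinearEquiv.mul_apply]

/-- (L1c) -/
theorem vt_not_small_seven (h : Ctx c M) (h7 : Fintype.card F = 7) {T : Finset κ} (hT : T.card = 3)
    {x : κ → F} (hx : Rt c M x) (hxT : x ∈ VT T) (hB : ¬ IsB x) :
    ¬ Small c {y : κ → F | Rt c M y ∧ y ∈ VT T} (VT T) := by
  intro hsm
  obtain ⟨i, j, k, hij, hik, hjk, rfl⟩ := Finset.card_eq_three.1 hT
  have h7F := seven_eq_zero h7
  obtain ⟨n1, n2, n3, n4, n5, n6⟩ := ne_zero_seven h7 h.h2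
  have hS : Sys (Rt c M) := Cfsg.Agent.Lib.Helper5.F11.H15.FrCLeaf.sys_of_ctx h
  have hxe := eq_v3_of_mem_VT hij hik hjk hxT
  have hunit : x i ^ 2 + x j ^ 2 + x k ^ 2 = 1 := by
    have := hx.1
    rw [hxe, v3_dot hij hik hjk] at this
    linear_combination this
  -- no coordinate vanishes
  have hk0 : x k ≠ 0 := by
    intro h0
    apply hB
    apply isB_of_two_seven h7 h.h2 hij
    · intro l hli hlj
      by_cases hlk : l = k
      · rw [hlk, h0]
      · apply hxT
        simp only [Finset.mem_insert, Finset.mem_singleton, not_or]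
        exact ⟨hli, hlj, hlk⟩
    · rw [h0] at hunit
      linear_combination hunit
  have hj0 : x j ≠ 0 := by
    intro h0
    apply hB
    apply isB_of_two_seven h7 h.h2 hik
    · intro l hli hlk
      by_cases hlj : l = j
      · rw [hlj, h0]
      · apply hxT
        simp only [Finset.mem_insert, Finset.mem_singleton, not_or]
        exact ⟨hli, hlj, hlk⟩
    · rw [h0] at hunit
      linear_combination hunit
  have hi0 : x i ≠ 0 := by
    intro h0
    apply hB
    apply isB_of_two_seven h7 h.h2 hjk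
    · intro l hlj hlk
      by_cases hli : l = i
      · rw [hli, h0]
      · apply hxT
        simp only [Finset.mem_insert, Finset.mem_singleton, not_or]
        exact ⟨hli, hlj, hlk⟩
    · rw [h0] at hunit
      linear_combination hunit
  -- the root `(3,3,2)`
  have hxR : Rt c M (v3 i j k (x i) (x j) (x k)) := by rw [← hxe]; exact hx
  have hy1 : Rt c M (v3 i j k 3 3 2) := by
    rcases squares_seven h7 h.h2 hi0 hj0 hk0 hunit with ⟨ha, hb, hc'⟩ | ⟨ha, hb, hc'⟩ | ⟨ha, hb, hc'⟩
    · exact norm_224 hij hik hjk h7 hS hxR ha hb hc'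
    · exact norm_224 hij hik hjk h7 hS (v3_rot hij hik hjk hS (v3_rot hij hik hjk hS hxR)) hc' ha hb
    · exact norm_224 hij hik hjk h7 hS (v3_rot hij hik hjk hS hxR) hb hc' ha
  -- the root `(3,2,4)`
  have hy2 : Rt c M (v3 i j k 3 2 4) := by
    have h1 := v3_flip3 hij hik hjk hS (v3_rot hij hik hjk hS hy1)
    have h2 : v3 i j k (3 : F) 2 (-3) = v3 i j k 3 2 4 :=
      v3_ext rfl rfl (by linear_combination (-1 : F) * h7F)
    rwa [h2] at h1
  have he : Rt c M (v3 i j k 1 0 0) := by
    rw [v3_e]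
    exact Cfsg.Agent.Lib.Helper5.F11.H15.FrCLeaf.rt_e h i
  -- the word
  set g := negRefl (stdQ κ F c) (v3 i j k 1 0 0) * negRefl (stdQ κ F c) (v3 i j k 3 3 2) *
    negRefl (stdQ κ F c) (v3 i j k 3 2 4) with hg
  have hgm : g ∈ Subgroup.closure ((negRefl (stdQ κ F c)) ''
      {y : κ → F | Rt c M y ∧ y ∈ (VT ({i, j, k} : Finset κ) : Submodule F (κ → F))}) :=
    Subgroup.mul_mem _ (Subgroup.mul_mem _
      (Subgroup.subset_closure ⟨_, ⟨he, v3_mem_VT _ _ _⟩, rfl⟩)
      (Subgroup.subset_closure ⟨_, ⟨hy1, v3_mem_VT _ _ _⟩, rfl⟩))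
      (Subgroup.subset_closure ⟨_, ⟨hy2, v3_mem_VT _ _ _⟩, rfl⟩)
  have hG : ∀ p q r : F, toOG (stdQ κ F c) g (v3 i j k p q r) =
      v3 i j k (2 * p + 4 * q + 4 * r) (5 * q + 2 * r) (2 * p + 3 * q + 3 * r) :=
    fun p q r => word_seven hij hik hjk h7 h.hc h.h2 p q r
  -- the orbit of `e_i`
  have e1 : toOG (stdQ κ F c) (g ^ 1) (v3 i j k 1 0 0) = v3 i j k 2 0 2 := by
    rw [pow_one, hG]
    apply v3_ext <;> ring
  have e2 : toOG (stdQ κ F c) (g ^ 2) (v3 i j k 1 0 0) = v3 i j k 5 4 3 := by
    rw [toOG_pow_succ' g 1, e1, hG]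
    apply v3_ext
    · linear_combination (1 : F) * h7F
    · linear_combination (0 : F) * h7F
    · linear_combination (1 : F) * h7F
  have e3 : toOG (stdQ κ F c) (g ^ 3) (v3 i j k 1 0 0) = v3 i j k 3 5 3 := by
    rw [toOG_pow_succ' g 2, e2, hG]
    apply v3_ext
    · linear_combination (5 : F) * h7F
    · linear_combination (3 : F) * h7F
    · linear_combination (4 : F) * h7F
  have e4 : toOG (stdQ κ F c) (g ^ 4) (v3 i j k 1 0 0) = v3 i j k 3 3 2 := by
    rw [toOG_pow_succ' g 3, e3, hG]
    apply v3_ext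
    · linear_combination (5 : F) * h7F
    · linear_combination (4 : F) * h7F
    · linear_combination (4 : F) * h7F
  have e5 : toOG (stdQ κ F c) (g ^ 5) (v3 i j k 1 0 0) = v3 i j k 5 5 0 := by
    rw [toOG_pow_succ' g 4, e4, hG]
    apply v3_ext
    · linear_combination (3 : F) * h7F
    · linear_combination (2 : F) * h7F
    · linear_combination (3 : F) * h7F
  obtain ⟨n, hn1, hn5, hnp, hfix⟩ := hsm g hgm
  have hfix0 := hfix _ (v3_mem_VT (i := i) (j := j) (k := k) (1 : F) 0 0)
  have key : ∀ a b d : F, v3 i j k a b d = v3 i j k 1 0 0 → a = 1 := by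
    intro a b d hab
    have := congrFun hab i
    rwa [v3_i, v3_i] at this
  interval_cases n
  · rw [e1] at hfix0
    exact n1 (by linear_combination key _ _ _ hfix0)
  · rw [e2] at hfix0
    exact n4 (by linear_combination key _ _ _ hfix0)
  · rw [e3] at hfix0
    exact n2 (by linear_combination key _ _ _ hfix0)
  · rw [e4] at hfix0
    exact n2 (by linear_combination key _ _ _ hfix0)
  · rw [e5] at hfix0
    exact n4 (by linear_combination key _ _ _ hfix0)

end Cfsg.Agent.Lib.Helper5.F11.H27.FrCLeaf
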